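import Groth.Agent.ResProp.EF.K294.Tor

/-!
# `TorGE` is stable under `M ↦ M ⊗ (free module)`
-/

set_option autoImplicit false

universe u

open CategoryTheory CategoryTheory.Limits MonoidalCategory HomologicalComplex

namespace Groth.Agent.ResProp.EF.K328

open Groth.Agent.ResProp.EF.K294

variable {A : Type u} [CommRing A]

section Finsupp

variable (I : Type u) (M : ModuleCat.{u} A)

/-- the inclusions of `M` in `I →₀ M`. -/
noncomputable def inj (i : I) : M ⟶ ModuleCat.of A (I →₀ M) := ModuleCat.ofHom (Finsupp.lsingle i)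

/-- `I →₀ M` is the coproduct of copies of `M`. -/
noncomputable def isColimitInj : IsColimit (Cofan.mk (ModuleCat.of A (I →₀ M)) (inj I M)) :=
  Cofan.IsColimit.mk _ (fun s => ModuleCat.ofHom (Finsupp.lsum ℕ (fun i => (s.inj i).hom)))
    (fun s i => by
      ext m
      change Finsupp.lsum ℕ (fun i => (s.inj i).hom) (Finsupp.single i m) = _
      rw [Finsupp.lsum_single])
    (fun s m hm => by
      refine ModuleCat.hom_ext (Finsupp.lhom_ext fun i x => ?_)
      have := congrArg (fun f => f.hom x) (hm i)
      change m.hom (Finsupp.single i x) = Finsupp.lsum ℕ (fun i => (s.inj i).hom) (Finsupp.single i x)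
      rw [Finsupp.lsum_single]
      exact this)

end Finsupp

variable {I : Type u} (T : ModuleCat.{u} A ⥤ ModuleCat.{u} A) [T.Additive]
  (e : ∀ M : ModuleCat.{u} A, T.obj M ≅ ModuleCat.of A (I →₀ M))
  (he : ∀ {M N : ModuleCat.{u} A} (f : M ⟶ N),
    T.map f ≫ (e N).hom = (e M).hom ≫ ModuleCat.ofHom (Finsupp.mapRange.linearMap f.hom))

/-- the inclusions in `T M`. -/
noncomputable def injT (i : I) (M : ModuleCat.{u} A) : M ⟶ T.obj M := inj I M i ≫ (e M).inv

omit [T.Additive] in
include he in
lemma injT_nat (i : I) {M N : ModuleCat.{u} A} (f : M ⟶ N) : injT T e i M ≫ T.map f = f ≫ injT T e i N := by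
  have h : T.map f = (e M).hom ≫ ModuleCat.ofHom (Finsupp.mapRange.linearMap f.hom) ≫ (e N).inv := by
    rw [← Category.assoc, ← he, Category.assoc, Iso.hom_inv_id, Category.comp_id]
  rw [h, injT, injT, Category.assoc, Iso.inv_hom_id_assoc, ← Category.assoc, ← Category.assoc]
  congr 1
  refine ModuleCat.hom_ext (LinearMap.ext fun m => ?_)
  change Finsupp.mapRange.linearMap f.hom (Finsupp.single i m) = Finsupp.single i (f.hom m)
  simp

/-- `T M` is the coproduct of copies of `M`. -/
noncomputable def isColimitInjT (M : ModuleCat.{u} A) :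
    IsColimit (Cofan.mk (T.obj M) (fun i => injT T e i M)) :=
  (isColimitInj I M).ofIsoColimit (Cofan.ext (e M).symm (fun _ => rfl))

include he in
/-- `TorGE` is stable under `M ↦ M ⊗ (free module)`. -/
theorem torGE_finsupp {a : ℤ} {K : CM A} (hK : TorGE a K) :
    TorGE a ((T.mapHomologicalComplex (ComplexShape.up ℤ)).obj K) := by
  let F : Discrete I ⥤ CM A := Discrete.functor (fun _ => K)
  let c : Cocone F :=
    { pt := (T.mapHomologicalComplex (ComplexShape.up ℤ)).obj K
      ι := Discrete.natTrans (fun i =>
        { f := fun n => injT T e i.as (K.X n)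
          comm' := fun m n _ => injT_nat T e he i.as (K.d m n) }) }
  have hc : IsColimit c := by
    refine HomologicalComplex.isColimitOfEval F c fun n => ?_
    refine IsColimit.ofIsoColimit ((IsColimit.precomposeHomEquiv
      (Discrete.natIso (fun _ => Iso.refl _)) _).symm (isColimitInjT T e (K.X n)))
      (Cocone.ext (Iso.refl _) (fun i => ?_))
    exact (Category.comp_id _).trans (Category.id_comp _)
  have h1 : HasExactColimitsOfShape (Discrete I) (ModuleCat.{u} A) := hasExactColimitsOfShape_discrete A I
  have h2 : ∀ M : ModuleCat.{u} A, PreservesColimitsOfShape (Discrete I) (tensorLeft M) := fun M => inferInstance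
  have h3 : ∀ j : Discrete I, TorGE a (F.obj j) := fun _ => hK
  have key : TorGE a c.pt := TorGE.of_isColimit (J := Discrete I) (K := F) (c := c) hc h3
  exact key

section TensFree

open TensorProduct

open scoped Classical

variable (A) (k : Type u) [CommRing k] [Algebra k A] (O : Type u) [AddCommGroup O] [Module k O] {I : Type u} (b : Module.Basis I k O)

/-- `M ⊗[k] O ≃ (I →₀ M)`, `A`-linear, for a `k`-basis of `O`. -/
noncomputable def tensFreeEquiv (M : Type u) [AddCommGroup M] [Module A M] [Module k M] [IsScalarTower k A M] :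
    M ⊗[k] O ≃ₗ[A] (I →₀ M) :=
  AlgebraTensorModule.congr (LinearEquiv.refl A M) b.repr ≪≫ₗ TensorProduct.finsuppScalarRight k A M I

lemma tensFreeEquiv_tmul (M : Type u) [AddCommGroup M] [Module A M] [Module k M] [IsScalarTower k A M] (m : M) (o : O)
    (i : I) : tensFreeEquiv A k O b M (m ⊗ₜ o) i = b.repr o i • m := by
  change TensorProduct.finsuppScalarRight k A M I (m ⊗ₜ b.repr o) i = _
  rw [TensorProduct.finsuppScalarRight_apply_tmul_apply]

/-- naturality. -/
lemma tensFreeEquiv_nat {M N : Type u} [AddCommGroup M] [Module A M] [Module k M] [IsScalarTower k A M] [AddCommGroup N]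
    [Module A N] [Module k N] [IsScalarTower k A N] (f : M →ₗ[A] N) (x : M ⊗[k] O) :
    tensFreeEquiv A k O b N (AlgebraTensorModule.map f LinearMap.id x) =
      Finsupp.mapRange.linearMap f (tensFreeEquiv A k O b M x) := by
  induction x using TensorProduct.induction_on with
  | zero => simp
  | tmul m o =>
    ext i
    rw [AlgebraTensorModule.map_tmul, tensFreeEquiv_tmul, Finsupp.mapRange.linearMap_apply, Finsupp.mapRange_apply,
      tensFreeEquiv_tmul, LinearMap.id_apply]
    exact ((f.restrictScalars k).map_smul _ _).symm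
  | add x y hx hy => rw [map_add, map_add, hx, hy, map_add, map_add]

end TensFree

end Groth.Agent.ResProp.EF.K328
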