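import Groth.Agent.StMod.K784.BC
import Mathlib.LinearAlgebra.TensorProduct.Tower

/-!
# `IsBC` is stable under `- ⊗[k] W`
-/

set_option autoImplicit false
set_option linter.style.haveILetI false

open TensorProduct

namespace Groth.Agent.ResProp.EF.K328

open K784.BC

universe u₀ u₁ u₂ u₃ u₄ u₅

variable {k : Type u₀} {A : Type u₁} {B : Type u₂} [CommRing k] [CommRing A] [CommRing B] [Algebra k A] [Algebra k B]
variable {M : Type u₃} {N : Type u₄} [AddCommGroup M] [Module A M] [Module k M] [IsScalarTower k A M]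
  [AddCommGroup N] [Module B N] [Module k N] [IsScalarTower k B N]

/-- if `f : M → N` is a base change along `φ : A → B` (a map of `k`-algebras) then so is `f ⊗ W`, for every `k`-module `W`. -/
theorem isBC_rTensor (φ : A →+* B) (h : ∀ x : k, φ (algebraMap k A x) = algebraMap k B x)
    (f : M →ₗ[k] N) (hf : IsBC φ f.toAddMonoidHom) (W : Type u₅) [AddCommGroup W] [Module k W] :
    IsBC φ (f.rTensor W).toAddMonoidHom := by
  letI := φ.toAlgebra
  haveI : IsScalarTower k A B := IsScalarTower.of_algebraMap_eq fun x => (h x).symm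
  obtain ⟨e0, he0⟩ := (isBC_mk φ M).exists_equiv hf
  let e : (B ⊗[A] (M ⊗[k] W)) ≃ₗ[B] (N ⊗[k] W) :=
    (AlgebraTensorModule.assoc k A B B M W).symm ≪≫ₗ AlgebraTensorModule.congr e0 (LinearEquiv.refl k W)
  refine (isBC_mk φ (M ⊗[k] W)).of_equiv e fun x => ?_
  change e (1 ⊗ₜ[A] x) = f.rTensor W x
  induction x using TensorProduct.induction_on with
  | zero => rw [TensorProduct.tmul_zero, map_zero, map_zero]
  | tmul m w =>
    have h1 : e0 ((1 : B) ⊗ₜ[A] m) = f m := he0 m
    change e0 ((1 : B) ⊗ₜ[A] m) ⊗ₜ[k] w = f m ⊗ₜ[k] w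
    rw [h1]
  | add x y hx hy => rw [TensorProduct.tmul_add, map_add, map_add, hx, hy]

end Groth.Agent.ResProp.EF.K328
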