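import Groth.Agent.ResProp.EF.K742.Bicom
import Groth.Agent.ResProp.EF.K742.GO
import Groth.Agent.ResProp.EF.X56.ChartF
import Mathlib.RingTheory.Flat.Stability

/-!
# Flatness of `M ⊗_k W` (G6c, (I4))
-/

set_option autoImplicit false
set_option linter.dupNamespace false

open CategoryTheory CategoryTheory.Limits Opposite TensorProduct

noncomputable section

namespace Groth.Agent.ResProp.EF.K328

open K784.BC K784.PM K741.RP EF56

universe u

theorem flat_aux (k R M W : Type u) [CommRing k] [CommRing R] [Algebra k R] [AddCommGroup M] [Module k M] [Module R M]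
    [IsScalarTower k R M] [AddCommGroup W] [Module k W] [Module.Flat R M] [Module.Flat k W] : Module.Flat R (M ⊗[k] W) := by
  have e : (R ⊗[k] W) ⊗[R] M ≃ₗ[R] M ⊗[k] W :=
    TensorProduct.comm R (R ⊗[k] W) M ≪≫ₗ AlgebraTensorModule.cancelBaseChange k R R M W
  exact Module.Flat.of_linearEquiv e.symm

/-- `M` flat over `R`, `W` flat over `k` ⇒ `M ⊗_k W` flat over `R` -/
theorem flat_TM {k R : Type u} [CommRing k] [CommRing R] (κ : k →+* R) (M : Type u) [AddCommGroup M] [Module R M]
    (W : Type u) [AddCommGroup W] [Module k W] [Module.Flat R M] [Module.Flat k W] :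
    Module.Flat R (K742.TM κ M W) := by
  letI := κ.toAlgebra
  letI : Module k M := Module.compHom M κ
  haveI : IsScalarTower k R M := K742.towerAux κ M
  exact flat_aux k R M W

variable {k : Type u} [CommRing k] {A : NFᵒᵖ ⥤ CommRingCat.{u}} (s : K742.KS k A)

/-- flatness of `M ⊗_k W` on the chart -/
theorem flat_vst_tensC (W : Type u) [AddCommGroup W] [Module k W] [Module.Flat k W] (M : Comod A)
    (h : Module.Flat (A.obj (op ⟨0⟩)) ((vst A).obj M)) :
    Module.Flat (A.obj (op ⟨0⟩)) ((vst A).obj ((K742.tensC s W).obj M)) := by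
  have h' : Module.Flat (A.obj (op ⟨0⟩)) (M.obj.obj (op ⟨0⟩)) := h
  exact flat_TM (s.κ (op ⟨0⟩)) (M.obj.obj (op ⟨0⟩)) W

/-- (I4) hG for `chartF A` and the comonad `- ⊗_k O` -/
theorem hG [Fact (GR A)] (O : Type u) [AddCommGroup O] [Module k O] [Coalgebra k O] [Module.Flat k O] (N : Comod A)
    (h : Module.Flat (A.obj (op ⟨0⟩)) ((chartF A).us.obj N)) :
    Module.Flat (A.obj (op ⟨0⟩)) ((chartF A).us.obj ((K742.GO s O).obj N)) :=
  flat_vst_tensC s O N h

/-- (I4) hW for `chartF A` and `- ⊗_k W` -/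
theorem hW [Fact (GR A)] (W : Type u) [AddCommGroup W] [Module k W] [Module.Flat k W] (N : Comod A)
    (h : Module.Flat (A.obj (op ⟨0⟩)) ((chartF A).us.obj N)) :
    Module.Flat (A.obj (op ⟨0⟩)) ((chartF A).us.obj ((K742.tensC s W).obj N)) :=
  flat_vst_tensC s W N h

end Groth.Agent.ResProp.EF.K328
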